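import Cfsg.Agent.Lib.KnownSimple.M22Lab.Data

set_option autoImplicit false
set_option maxRecDepth 100000

namespace Cfsg.Agent.Lib.KnownSimple.M22Lab

open Cfsg.Agent.Lib.KnownSimple.Lab Cfsg.Agent.Lib.KnownSimple.M22Lab Dat

theorem hL0_c0 : allI (fun i => lowOK D.T lN 12 0 wr0 i) 0 8064 = true := by decide +kernel
theorem hL0_u0 : ∀ i, i < 8064 → (fun i => lowOK D.T lN 12 0 wr0 i) i = true :=
  allI_join allI_start hL0_c0 rfl
theorem hL0 : ∀ i, i < 8064 → (fun i => lowOK D.T lN 12 0 wr0 i) i = true := hL0_u0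
theorem hL1_c0 : allI (fun i => lowOK D.T lN 12 0 wr1 i) 0 8064 = true := by decide +kernel
theorem hL1_u0 : ∀ i, i < 8064 → (fun i => lowOK D.T lN 12 0 wr1 i) i = true :=
  allI_join allI_start hL1_c0 rfl
theorem hL1 : ∀ i, i < 8064 → (fun i => lowOK D.T lN 12 0 wr1 i) i = true := hL1_u0
theorem hL2_c0 : allI (fun i => lowOK D.T lN 12 0 wr2 i) 0 8064 = true := by decide +kernel
theorem hL2_u0 : ∀ i, i < 8064 → (fun i => lowOK D.T lN 12 0 wr2 i) i = true :=
  allI_join allI_start hL2_c0 rfl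
theorem hL2 : ∀ i, i < 8064 → (fun i => lowOK D.T lN 12 0 wr2 i) i = true := hL2_u0
theorem hL3_c0 : allI (fun i => lowOK D.T lN 12 0 wr3 i) 0 8064 = true := by decide +kernel
theorem hL3_u0 : ∀ i, i < 8064 → (fun i => lowOK D.T lN 12 0 wr3 i) i = true :=
  allI_join allI_start hL3_c0 rfl
theorem hL3 : ∀ i, i < 8064 → (fun i => lowOK D.T lN 12 0 wr3 i) i = true := hL3_u0
theorem hL4_c0 : allI (fun i => lowOK D.T lN 12 10 wr4 i) 0 8064 = true := by decide +kernel
theorem hL4_u0 : ∀ i, i < 8064 → (fun i => lowOK D.T lN 12 10 wr4 i) i = true :=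
  allI_join allI_start hL4_c0 rfl
theorem hL4 : ∀ i, i < 8064 → (fun i => lowOK D.T lN 12 10 wr4 i) i = true := hL4_u0
theorem hL5_c0 : allI (fun i => lowOK D.T lN 12 8 wr5 i) 0 8064 = true := by decide +kernel
theorem hL5_u0 : ∀ i, i < 8064 → (fun i => lowOK D.T lN 12 8 wr5 i) i = true :=
  allI_join allI_start hL5_c0 rfl
theorem hL5 : ∀ i, i < 8064 → (fun i => lowOK D.T lN 12 8 wr5 i) i = true := hL5_u0
theorem hL6_c0 : allI (fun i => lowOK D.T lN 12 3 wr6 i) 0 6818 = true := by decide +kernel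
theorem hL6_u0 : ∀ i, i < 6818 → (fun i => lowOK D.T lN 12 3 wr6 i) i = true :=
  allI_join allI_start hL6_c0 rfl
theorem hL6_c1 : allI (fun i => lowOK D.T lN 12 3 wr6 i) 6818 1246 = true := by decide +kernel
theorem hL6_u1 : ∀ i, i < 8064 → (fun i => lowOK D.T lN 12 3 wr6 i) i = true :=
  allI_join hL6_u0 hL6_c1 rfl
theorem hL6 : ∀ i, i < 8064 → (fun i => lowOK D.T lN 12 3 wr6 i) i = true := hL6_u1
theorem hL7_c0 : allI (fun i => lowOK D.T lN 12 9 wr7 i) 0 8064 = true := by decide +kernel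
theorem hL7_u0 : ∀ i, i < 8064 → (fun i => lowOK D.T lN 12 9 wr7 i) i = true :=
  allI_join allI_start hL7_c0 rfl
theorem hL7 : ∀ i, i < 8064 → (fun i => lowOK D.T lN 12 9 wr7 i) i = true := hL7_u0
theorem hL8_c0 : allI (fun i => lowOK D.T lN 12 6 wr8 i) 0 6250 = true := by decide +kernel
theorem hL8_u0 : ∀ i, i < 6250 → (fun i => lowOK D.T lN 12 6 wr8 i) i = true :=
  allI_join allI_start hL8_c0 rfl
theorem hL8_c1 : allI (fun i => lowOK D.T lN 12 6 wr8 i) 6250 1814 = true := by decide +kernel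
theorem hL8_u1 : ∀ i, i < 8064 → (fun i => lowOK D.T lN 12 6 wr8 i) i = true :=
  allI_join hL8_u0 hL8_c1 rfl
theorem hL8 : ∀ i, i < 8064 → (fun i => lowOK D.T lN 12 6 wr8 i) i = true := hL8_u1
theorem hL9_c0 : allI (fun i => lowOK D.T lN 12 2 wr9 i) 0 5000 = true := by decide +kernel
theorem hL9_u0 : ∀ i, i < 5000 → (fun i => lowOK D.T lN 12 2 wr9 i) i = true :=
  allI_join allI_start hL9_c0 rfl
theorem hL9_c1 : allI (fun i => lowOK D.T lN 12 2 wr9 i) 5000 3064 = true := by decide +kernel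
theorem hL9_u1 : ∀ i, i < 8064 → (fun i => lowOK D.T lN 12 2 wr9 i) i = true :=
  allI_join hL9_u0 hL9_c1 rfl
theorem hL9 : ∀ i, i < 8064 → (fun i => lowOK D.T lN 12 2 wr9 i) i = true := hL9_u1
theorem hL10_c0 : allI (fun i => lowOK D.T lN 12 6 wr10 i) 0 6250 = true := by decide +kernel
theorem hL10_u0 : ∀ i, i < 6250 → (fun i => lowOK D.T lN 12 6 wr10 i) i = true :=
  allI_join allI_start hL10_c0 rfl
theorem hL10_c1 : allI (fun i => lowOK D.T lN 12 6 wr10 i) 6250 1814 = true := by decide +kernel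
theorem hL10_u1 : ∀ i, i < 8064 → (fun i => lowOK D.T lN 12 6 wr10 i) i = true :=
  allI_join hL10_u0 hL10_c1 rfl
theorem hL10 : ∀ i, i < 8064 → (fun i => lowOK D.T lN 12 6 wr10 i) i = true := hL10_u1
theorem hL11_c0 : allI (fun i => lowOK D.T lN 12 10 wr11 i) 0 4687 = true := by decide +kernel
theorem hL11_u0 : ∀ i, i < 4687 → (fun i => lowOK D.T lN 12 10 wr11 i) i = true :=
  allI_join allI_start hL11_c0 rfl
theorem hL11_c1 : allI (fun i => lowOK D.T lN 12 10 wr11 i) 4687 3377 = true := by decide +kernel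
theorem hL11_u1 : ∀ i, i < 8064 → (fun i => lowOK D.T lN 12 10 wr11 i) i = true :=
  allI_join hL11_u0 hL11_c1 rfl
theorem hL11 : ∀ i, i < 8064 → (fun i => lowOK D.T lN 12 10 wr11 i) i = true := hL11_u1
theorem hL12_c0 : allI (fun i => lowOK D.T lN 12 11 wr12 i) 0 4285 = true := by decide +kernel
theorem hL12_u0 : ∀ i, i < 4285 → (fun i => lowOK D.T lN 12 11 wr12 i) i = true :=
  allI_join allI_start hL12_c0 rfl
theorem hL12_c1 : allI (fun i => lowOK D.T lN 12 11 wr12 i) 4285 3779 = true := by decide +kernel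
theorem hL12_u1 : ∀ i, i < 8064 → (fun i => lowOK D.T lN 12 11 wr12 i) i = true :=
  allI_join hL12_u0 hL12_c1 rfl
theorem hL12 : ∀ i, i < 8064 → (fun i => lowOK D.T lN 12 11 wr12 i) i = true := hL12_u1

end Cfsg.Agent.Lib.KnownSimple.M22Lab
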